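import Groth.Agent.Stk19b.Moduli.Reduced
import Groth.Agent.Stk19b.PointLift
import Groth.Agent.Stk19.AlgSt.Spectral
import Groth.Agent.AlgSpLib.FpqcBaseAffine2
import Groth.Agent.AlgSpLib.Diag
import Groth.Agent.Stk19b.Boot.Corollaries
import Groth.Prelude.Def_StCoarse
import Mathlib.AlgebraicGeometry.ZariskisMainTheorem

/-! A section makes a bijective morphism from a reduced stack with finite diagonal a coarse moduli space. -/

set_option autoImplicit false
set_option backward.isDefEq.respectTransparency false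
set_option backward.isDefEq.respectTransparency.types false
set_option linter.style.haveILetI false

universe u

open CategoryTheory CategoryTheory.Limits AlgebraicGeometry Opposite FibCat
open Groth.Agent.Desc19 Groth.Agent.Stk19 Groth.Agent.Stk19b Groth.Agent.Stk19b.Quot Groth.Agent.Stk19b.Moduli

noncomputable section

namespace Groth.Agent.Coarse19

variable {S : Scheme.{u}} {𝒳 𝒲 : AlgSt.Cat S} {Z N : AlgSp.Sp S}

theorem pair_iso {L L' : 𝒲 ⥤ᵇ fp (toSelf 𝒳) (toSelf 𝒳)}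
    (α : BasedFunctor.comp L (fpFst _ _) ≅ BasedFunctor.comp L' (fpFst _ _))
    (β : BasedFunctor.comp L (fpSnd _ _) ≅ BasedFunctor.comp L' (fpSnd _ _)) : Nonempty (L ≅ L') :=
  ⟨isoMk (fun t => fpIsoMk (Stk19.appIso α t) (Stk19.appIso β t) (prod_w _ _ (by
      rw [show 𝒳.p.map (Stk19.appIso α t).hom = _ from based_app_map α.hom t,
        show 𝒳.p.map (Stk19.appIso β t).hom = _ from based_app_map β.hom t]
      simp)))
    (fun t => fpIsoMk_vert _ _ _ (based_app_vert α.hom t))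
    (fun φ => fp_hom_ext (α.hom.toNatTrans.naturality φ) (β.hom.toNatTrans.naturality φ))⟩

/-- A morphism of schemes to the source of two maps to a space which is finite, surjective and equalises them
shows that they are equal if the source is reduced. -/
theorem eq_of_finite_surjective (hN : AlgSp.IsAlgSpace N) {U W : Over S} [IsReduced U.left] (w : W ⟶ U)
    [IsFinite w.left] [Surjective w.left] (a b : (AlgSp.yon S).obj U ⟶ N)
    (h : (AlgSp.yon S).map w ≫ a = (AlgSp.yon S).map w ≫ b) : a = b := by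
  have hd := AlgSpLib.repWith_diag_lft hN
  obtain ⟨P, i, fst, sq, hP⟩ := AlgSpLib.exists_yon_of_repWith hd (prod.lift a b)
  haveI : LocallyOfFiniteType i.left := hP
  haveI : Mono (Limits.diag N) := mono_of_mono_fac (prod.lift_fst (𝟙 N) (𝟙 N))
  haveI : Mono ((AlgSp.yon S).map i) := MorphismProperty.of_isPullback
    (P := MorphismProperty.monomorphisms _) sq (inferInstanceAs (Mono (Limits.diag N)))
  haveI : Mono i := (AlgSp.yon S).mono_of_mono_map inferInstance
  haveI : Mono i.left := inferInstanceAs (Mono ((Over.forget S).map i))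
  have hw : ((AlgSp.yon S).map w ≫ a) ≫ Limits.diag N = (AlgSp.yon S).map w ≫ prod.lift a b := by
    apply prod.hom_ext
    · simp
    · simp [← h]
  obtain ⟨l, hl⟩ := (AlgSp.yon S).map_surjective (sq.lift _ _ hw)
  have hli : l ≫ i = w := (AlgSp.yon S).map_injective (by rw [Functor.map_comp, hl, sq.lift_snd])
  have hli' : l.left ≫ i.left = w.left := congrArg CommaMorphism.left hli
  haveI : Surjective i.left := ⟨fun x => by
    obtain ⟨z, hz⟩ := w.left.surjective x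
    exact ⟨l.left z, by rw [← Scheme.Hom.comp_apply, hli', hz]⟩⟩
  haveI : Surjective l.left := ⟨fun y => by
    obtain ⟨z, hz⟩ := w.left.surjective (i.left y)
    refine ⟨z, i.left.injective ?_⟩
    rw [← Scheme.Hom.comp_apply, hli', hz]⟩
  haveI : UniversallyClosed (l.left ≫ i.left) := hli' ▸ inferInstance
  haveI : UniversallyClosed i.left := UniversallyClosed.of_comp_surjective l.left i.left
  haveI : IsProper i.left := ⟨⟩
  haveI : IsClosedImmersion i.left := (IsClosedImmersion.iff_isProper_and_mono _).2 ⟨inferInstance, inferInstance⟩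
  haveI := isIso_of_isClosedImmersion_of_surjective i.left
  haveI : IsIso ((Over.forget S).map i) := inferInstanceAs (IsIso i.left)
  haveI : IsIso i := isIso_of_reflects_iso i (Over.forget S)
  rw [← cancel_epi ((AlgSp.yon S).map i)]
  have h1 := congrArg (· ≫ prod.fst) sq.w
  have h2 := congrArg (· ≫ prod.snd) sq.w
  simp only [Category.assoc, prod.lift_fst, prod.lift_snd] at h1 h2
  exact h1.symm.trans h2

/-- Values at the generic object of isomorphic functors agree. -/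
theorem σ_comp_congr {T : Over S} {x x' : overCat T ⥤ᵇ 𝒳} (i : x ≅ x') (ψ : 𝒳 ⥤ᵇ AlgSt.ofSp N) :
    σ (BasedFunctor.comp x ψ) (Over.mk (𝟙 T)) = σ (BasedFunctor.comp x' ψ) (Over.mk (𝟙 T)) :=
  congrArg (fun G => σ G (Over.mk (𝟙 T))) (eq_of_iso ((postB _ ψ).mapIso i))

theorem σ_overMap {T U : Over S} (c : T ⟶ U) (G : overCat U ⥤ᵇ AlgSt.ofSp N) :
    σ (BasedFunctor.comp (AlgSt.overMap c) G) (Over.mk (𝟙 T)) = (AlgSp.yon S).map c ≫ σ G (Over.mk (𝟙 U)) := by
  rw [σ_comp, σ_toId G ((AlgSt.overMap c).obj _)]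
  simp [AlgSt.overMap]

/-- Two functors to an algebraic space agreeing on a smooth surjective chart are equal. -/
theorem eq_of_chart (h𝒳 : IsFibGrpd 𝒳.p) {U : Over S} {x : overCat U ⥤ᵇ 𝒳}
    (hx : AlgSt.RepByAlgSpWith (AlgSp.LocP @Smooth) x) (hxs : AlgSt.RepByAlgSpWith AlgSp.IsSurjectiveMor x)
    (ψ ψ' : 𝒳 ⥤ᵇ AlgSt.ofSp N)
    (h : σ (BasedFunctor.comp x ψ) (Over.mk (𝟙 U)) = σ (BasedFunctor.comp x ψ') (Over.mk (𝟙 U))) : ψ = ψ' := by
  refine σ_ext fun a => ?_
  obtain ⟨F, j, hj⟩ := exists_classifying h𝒳 a rfl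
  obtain ⟨W, c, _, _, l, -, ⟨e⟩, -⟩ := exists_cover_lift hx hxs F F
  have key : ∀ χ : 𝒳 ⥤ᵇ AlgSt.ofSp N, (AlgSp.yon S).map c ≫ σ (BasedFunctor.comp F χ) (Over.mk (𝟙 _)) =
      (AlgSp.yon S).map (eqToHom (l.w_obj (Over.mk (𝟙 W))).symm) ≫ (AlgSp.yon S).map (l.obj (Over.mk (𝟙 W))).hom ≫
        σ (BasedFunctor.comp x χ) (Over.mk (𝟙 U)) := fun χ => by
    rw [← σ_overMap, ← σ_toId (BasedFunctor.comp x χ), ← σ_comp l (BasedFunctor.comp x χ)]
    exact (σ_comp_congr e χ).symm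
  haveI : Epi ((AlgSp.yon S).map c) := epi_yon_of_cover c inferInstance inferInstance inferInstance
  have h1 : σ (BasedFunctor.comp F ψ) (Over.mk (𝟙 _)) = σ (BasedFunctor.comp F ψ') (Over.mk (𝟙 _)) := by
    rw [← cancel_epi ((AlgSp.yon S).map c), key, key, h]
  have hj' : IsIso (𝒳.p.map j.hom) := inferInstance
  simp only [σ_comp] at h1
  rw [σ_map ψ j.hom, σ_map ψ' j.hom] at h1
  exact (cancel_epi _).1 ((cancel_epi _).1 h1)

theorem isCoarseModuli_of_section (h𝒳 : AlgSt.IsAlgStack Scheme.fppfPrecoverage 𝒳)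
    (hΔ : AlgSt.RepByAlgSpWith AlgSp.IsFiniteMor (FibCat.diag (FibCat.toSelf 𝒳)))
    (hred : AlgSt.SmoothLocally (fun X => IsReduced X) 𝒳) (hZ : AlgSp.IsAlgSpace Z)
    (f : 𝒳 ⥤ᵇ AlgSt.ofSp Z) (hf : AlgSt.GeomPtBij f)
    (s : AlgSt.ofSp Z ⥤ᵇ 𝒳) (e : BasedFunctor.comp s f ≅ BasedFunctor.id (AlgSt.ofSp Z)) :
    AlgSt.IsCoarseModuli f := by
  refine ⟨⟨hZ, fun N hN φ => ?_⟩, hf⟩
  obtain ⟨k⟩ := spHom_iso (BasedFunctor.comp s φ)
  refine ⟨spHom (BasedFunctor.comp s φ), ⟨eqToIso ?_⟩, fun g ⟨j⟩ => ?_⟩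
  swap
  · have h1 : BasedFunctor.comp s (BasedFunctor.comp f (AlgSt.ofSpMap g)) ≅ BasedFunctor.comp s φ :=
      (Stk.restr s _).mapIso j
    have h2 : BasedFunctor.comp (BasedFunctor.comp s f) (AlgSt.ofSpMap g) ≅ AlgSt.ofSpMap g :=
      (postB _ (AlgSt.ofSpMap g)).mapIso e
    exact (spHom_ofSpMap g).symm.trans (spHom_congr (h2.symm ≪≫ h1).hom)
  · obtain ⟨U, x, hx, hxs⟩ := h𝒳.atlas
    haveI : IsReduced U.left := hred U x hx
    refine eq_of_chart h𝒳.isStack.1 hx hxs _ _ ?_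
    let x' : overCat U ⥤ᵇ 𝒳 := BasedFunctor.comp (BasedFunctor.comp x f) s
    let y : overCat U ⥤ᵇ fp (toSelf 𝒳) (toSelf 𝒳) := pairSelf x x'
    obtain ⟨F, E, hE, ha⟩ := hΔ U y
    obtain ⟨W, w, fst, sq, hW⟩ := AlgSpLib.exists_yon_of_repWith ((AlgSpLib.isFiniteMor_iff_repWith _).1 ha) (𝟙 _)
    haveI : IsFinite w.left := hW
    have hw : fst ≫ AlgSt.spMapOfOver (BasedFunctor.comp E (fpFst y (diag (toSelf 𝒳)))) = (AlgSp.yon S).map w := by
      rw [sq.w, Category.comp_id]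
    haveI : Surjective w.left := ⟨fun p => by
      let Ω := AlgebraicClosure (U.left.residueField p)
      let m₀ : Spec (CommRingCat.of Ω) ⟶ U.left :=
        Spec.map (CommRingCat.ofHom (algebraMap (U.left.residueField p) Ω)) ≫ U.left.fromSpecResidueField p
      let T : Over S := Over.mk (m₀ ≫ U.hom)
      let m : T ⟶ U := Over.homMk m₀ rfl
      let z := BasedFunctor.comp (AlgSt.overMap m) x
      let z' := BasedFunctor.comp (AlgSt.overMap m) x'
      let ξ : 𝒳.p.Fiber T := ⟨z.obj (Over.mk (𝟙 T)), z.w_obj _⟩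
      let ξ' : 𝒳.p.Fiber T := ⟨z'.obj (Over.mk (𝟙 T)), z'.w_obj _⟩
      have hobj : f.obj ξ'.1 = f.obj ξ.1 :=
        congrArg (fun G : AlgSt.ofSp Z ⥤ᵇ AlgSt.ofSp Z => G.obj (f.obj ξ.1)) (eq_of_iso e)
      have hsec : AlgSt.fibSec f ξ = AlgSt.fibSec f ξ' := by
        have aux : ∀ (o o' : (AlgSt.ofSp Z).obj) (h : o.base = T) (h' : o'.base = T), o = o' →
            Z.obj.map (eqToHom h.symm).op o.sec = Z.obj.map (eqToHom h'.symm).op o'.sec := by
          rintro o _ h h' rfl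
          rfl
        exact aux (f.obj ξ.1) (f.obj ξ'.1) ((f.w_obj ξ.1).trans ξ.2) ((f.w_obj ξ'.1).trans ξ'.2) hobj.symm
      obtain ⟨i⟩ := (hf Ω T.hom).2 ξ ξ' hsec
      obtain ⟨α, -⟩ := yoneda_iso h𝒳.isStack.1 z z' (Functor.Fiber.fiberInclusion.mapIso i) i.hom.2
      obtain ⟨L⟩ := pair_iso (L := BasedFunctor.comp z (diag (toSelf 𝒳)))
        (L' := BasedFunctor.comp (AlgSt.overMap m) y) (Iso.refl z) α
      obtain ⟨t, ht⟩ := exists_sec_of_obj E m hE z ⟨L⟩
      obtain ⟨r, hr⟩ := (AlgSp.yon S).map_surjective (sq.lift t ((AlgSp.yon S).map m) (by rw [ht, Category.comp_id]))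
      have hrm : r ≫ w = m := (AlgSp.yon S).map_injective (by rw [Functor.map_comp, hr, sq.lift_snd])
      refine ⟨r.left (IsLocalRing.closedPoint Ω), ?_⟩
      rw [← Scheme.Hom.comp_apply, ← Over.comp_left, hrm]
      show m₀ _ = p
      rw [Scheme.Hom.comp_apply]
      exact Scheme.fromSpecResidueField_apply _ _⟩
    obtain ⟨z, ⟨L⟩⟩ := exists_obj_of_sec E w fst hw
    have α₁ : z ≅ BasedFunctor.comp (AlgSt.overMap w) x := (postB _ (fpFst (toSelf 𝒳) (toSelf 𝒳))).mapIso L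
    have α₂ : z ≅ BasedFunctor.comp (AlgSt.overMap w) x' := (postB _ (fpSnd (toSelf 𝒳) (toSelf 𝒳))).mapIso L
    refine eq_of_finite_surjective hN w _ _ ?_
    rw [← σ_overMap, ← σ_overMap]
    have h3 := σ_comp_congr (α₁.symm ≪≫ α₂) φ
    refine Eq.trans ?_ h3.symm
    exact (congrArg (fun G : overCat W ⥤ᵇ AlgSt.ofSp N => σ G (Over.mk (𝟙 W)))
      (congrArg (fun G => BasedFunctor.comp (BasedFunctor.comp (AlgSt.overMap w) (BasedFunctor.comp x f)) G)
        (eq_of_iso k))).symm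

end Groth.Agent.Coarse19
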